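import Cfsg.Agent.Lib.Helper12.TCG.ONx122760.Fin0
import Cfsg.Agent.Lib.Helper12.TCG.ONx122760.Fin1
import Cfsg.Agent.Lib.Helper12.TCG.ONx122760.Fin2
import Cfsg.Agent.Lib.Helper12.TCG.ONx122760.Fin3
import Cfsg.Agent.Lib.Helper12.TCG.ONx122760.Fin4
import Cfsg.Agent.Lib.Helper12.TCG.ONx122760.Fin5
import Cfsg.Agent.Lib.Helper12.TCG.ONx122760.Fin6
import Cfsg.Agent.Lib.Helper12.TCG.ONx122760.Fin7
import Cfsg.Agent.Lib.Helper12.TCG.ONx122760.Fin8
import Cfsg.Agent.Lib.Helper12.TCG.ONx122760.Fin9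
import Cfsg.Agent.Lib.Helper12.TCG.ONx122760.Fin10
import Cfsg.Agent.Lib.Helper12.TCG.ONx122760.Fin11
import Cfsg.Agent.Lib.Helper12.TCG.ONx122760.Fin12
import Cfsg.Agent.Lib.Helper12.TCG.ONx122760.Fin13
import Cfsg.Agent.Lib.Helper12.TCG.ONx122760.Fin14
import Cfsg.Agent.Lib.Helper12.TCG.ONx122760.Fin15
import Cfsg.Agent.Lib.Helper12.TCG.ONx122760.Fin16
import Cfsg.Agent.Lib.Helper12.TCG.ONx122760.Fin17
import Cfsg.Agent.Lib.Helper12.TCG.ONx122760.Fin18
import Cfsg.Agent.Lib.Helper12.TCG.ONx122760.Fin19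
import Cfsg.Agent.Lib.Helper12.TCG.ONx122760.Fin20
import Cfsg.Agent.Lib.Helper12.TCG.ONx122760.Fin21
import Cfsg.Agent.Lib.Helper12.TCG.ONx122760.Fin22
import Cfsg.Agent.Lib.Helper12.TCG.ONx122760.Fin23
import Cfsg.Agent.Lib.Helper12.TCG.ONx122760.Fin24
import Cfsg.Agent.Lib.Helper12.TCG.ONx122760.Fin25
import Cfsg.Agent.Lib.Helper12.TCG.ONx122760.Fin26
import Cfsg.Agent.Lib.Helper12.TCG.ONx122760.Fin27
import Cfsg.Agent.Lib.Helper12.TCG.ONx122760.Fin28
import Cfsg.Agent.Lib.Helper12.TCG.ONx122760.Fin29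
import Cfsg.Agent.Lib.Helper12.TCG.ONPres

/-! the final table for ONx122760 (generated, helper12) -/

set_option autoImplicit false
set_option maxRecDepth 100000
set_option linter.unusedSimpArgs false
set_option Elab.async false

namespace Cfsg.Agent.Lib.Helper12.TCG.ONx122760

open Cfsg.Agent.Lib.Helper12.TC Cfsg.Agent.Lib.Helper12.TCG Cfsg.Agent.Lib.Helper12.TCG.ONPres

theorem hdefs_0 : defsPartK F 0 16384 = true := by decide +kernel

theorem hdefs_1 : defsPartK F 16384 16384 = true := by decide +kernel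

theorem hdefs_2 : defsPartK F 32768 16384 = true := by decide +kernel

theorem hdefs_3 : defsPartK F 49152 16384 = true := by decide +kernel

theorem hdefs_4 : defsPartK F 65536 16384 = true := by decide +kernel

theorem hdefs_5 : defsPartK F 81920 16384 = true := by decide +kernel

theorem hdefs_6 : defsPartK F 98304 16384 = true := by decide +kernel

theorem hdefs_7 : defsPartK F 114688 16384 = true := by decide +kernel

theorem hdefs_8 : defsPartK F 131072 16384 = true := by decide +kernel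

theorem hdefs_9 : defsPartK F 147456 16384 = true := by decide +kernel

theorem hdefs_10 : defsPartK F 163840 16384 = true := by decide +kernel

theorem hdefs_11 : defsPartK F 180224 10806 = true := by decide +kernel

theorem hdefs : defsK F cD = true :=
  defsK_of_OK (defsOK_step hdefs_11 rfl
    (defsOK_step hdefs_10 rfl
    (defsOK_step hdefs_9 rfl
    (defsOK_step hdefs_8 rfl
    (defsOK_step hdefs_7 rfl
    (defsOK_step hdefs_6 rfl
    (defsOK_step hdefs_5 rfl
    (defsOK_step hdefs_4 rfl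
    (defsOK_step hdefs_3 rfl
    (defsOK_step hdefs_2 rfl
    (defsOK_step hdefs_1 rfl
    (defsOK_step hdefs_0 rfl
    (defsOK_start F)))))))))))))

theorem beq_chain {x A B : ℕ} (h1 : Nat.beq x A = true) (h2 : Nat.beq A B = true) :
    Nat.beq x B = true := by
  rw [Nat.eq_of_beq_eq_true h1]
  exact h2

theorem hlive' : Nat.beq (liveK (fr0 ++ (fr1 ++ (fr2 ++ (fr3 ++ (fr4 ++ (fr5 ++ (fr6 ++ (fr7 ++ (fr8 ++ (fr9 ++ (fr10 ++ (fr11 ++ (fr12 ++ (fr13 ++ (fr14 ++ (fr15 ++ (fr16 ++ (fr17 ++ (fr18 ++ (fr19 ++ (fr20 ++ (fr21 ++ (fr22 ++ (fr23 ++ (fr24 ++ (fr25 ++ (fr26 ++ (fr27 ++ (fr28 ++ (fr29))))))))))))))))))))))))))))))) (Nat.lor LIVE0 (Nat.lor LIVE1 (Nat.lor LIVE2 (Nat.lor LIVE3 (Nat.lor LIVE4 (Nat.lor LIVE5 (Nat.lor LIVE6 (Nat.lor LIVE7 (Nat.lor LIVE8 (Nat.lor LIVE9 (Nat.lor LIVE10 (Nat.lor LIVE11 (Nat.lor LIVE12 (Nat.lor LIVE13 (Nat.lor LIVE14 (Nat.lor LIVE15 (Nat.lor LIVE16 (Nat.lor LIVE17 (Nat.lor LIVE18 (Nat.lor LIVE19 (Nat.lor LIVE20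 (Nat.lor LIVE21 (Nat.lor LIVE22 (Nat.lor LIVE23 (Nat.lor LIVE24 (Nat.lor LIVE25 (Nat.lor LIVE26 (Nat.lor LIVE27 (Nat.lor LIVE28 (LIVE29)))))))))))))))))))))))))))))) = true :=
  (liveK_append_beq hlive_0 (liveK_append_beq hlive_1 (liveK_append_beq hlive_2 (liveK_append_beq hlive_3 (liveK_append_beq hlive_4 (liveK_append_beq hlive_5 (liveK_append_beq hlive_6 (liveK_append_beq hlive_7 (liveK_append_beq hlive_8 (liveK_append_beq hlive_9 (liveK_append_beq hlive_10 (liveK_append_beq hlive_11 (liveK_append_beq hlive_12 (liveK_append_beq hlive_13 (liveK_append_beq hlive_14 (liveK_append_beq hlive_15 (liveK_append_beq hlive_16 (liveK_append_beq hlive_17 (liveK_append_beq hlive_18 (liveK_append_beq hlive_19 (liveK_append_beq hlive_20 (liveK_append_beq hlive_21 (liveK_append_beq hlive_22 (liveK_append_beq hlive_23 (liveK_append_beq hlive_24 (liveK_append_beq hlive_25 (liveK_append_beq hlive_26 (liveK_append_beq hlive_27 (liveK_append_beq hlive_28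 hlive_29)))))))))))))))))))))))))))))

theorem hliveq : Nat.beq (Nat.lor LIVE0 (Nat.lor LIVE1 (Nat.lor LIVE2 (Nat.lor LIVE3 (Nat.lor LIVE4 (Nat.lor LIVE5 (Nat.lor LIVE6 (Nat.lor LIVE7 (Nat.lor LIVE8 (Nat.lor LIVE9 (Nat.lor LIVE10 (Nat.lor LIVE11 (Nat.lor LIVE12 (Nat.lor LIVE13 (Nat.lor LIVE14 (Nat.lor LIVE15 (Nat.lor LIVE16 (Nat.lor LIVE17 (Nat.lor LIVE18 (Nat.lor LIVE19 (Nat.lor LIVE20 (Nat.lor LIVE21 (Nat.lor LIVE22 (Nat.lor LIVE23 (Nat.lor LIVE24 (Nat.lor LIVE25 (Nat.lor LIVE26 (Nat.lor LIVE27 (Nat.lor LIVE28 (LIVE29)))))))))))))))))))))))))))))) LIVE = true := by decide +kernel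

theorem hlive : Nat.beq (liveK finrecs) LIVE = true := by
  unfold finrecs
  exact beq_chain hlive' hliveq

theorem hlive0 : bitK LIVE 0 = true := by decide +kernel

theorem hfin : finG cIV F cK 8 finrecs = true :=
  finG_of_parts hlive hlive0 (Fn.allListK_append hfin_0 (Fn.allListK_append hfin_1 (Fn.allListK_append hfin_2 (Fn.allListK_append hfin_3 (Fn.allListK_append hfin_4 (Fn.allListK_append hfin_5 (Fn.allListK_append hfin_6 (Fn.allListK_append hfin_7 (Fn.allListK_append hfin_8 (Fn.allListK_append hfin_9 (Fn.allListK_append hfin_10 (Fn.allListK_append hfin_11 (Fn.allListK_append hfin_12 (Fn.allListK_append hfin_13 (Fn.allListK_append hfin_14 (Fn.allListK_append hfin_15 (Fn.allListK_append hfin_16 (Fn.allListK_append hfin_17 (Fn.allListK_append hfin_18 (Fn.allListK_append hfin_19 (Fn.allListK_append hfin_20 (Fn.allListK_append hfin_21 (Fn.allListK_append hfin_22 (Fn.allListK_append hfin_23 (Fn.allListK_append hfin_24 (Fn.allListK_append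 hfin_25 (Fn.allListK_append hfin_26 (Fn.allListK_append hfin_27 (Fn.allListK_append hfin_28 hfin_29)))))))))))))))))))))))))))))

theorem hlen : finrecs.length = cN := by
  simp only [finrecs, List.length_append]
  decide +kernel

theorem hrelc : relCheckK RW cR0 cR baseL rotW sw = true := by
  decide +kernel

theorem hlet : lettersK 8 baseL = true := by decide +kernel

end Cfsg.Agent.Lib.Helper12.TCG.ONx122760
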