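import Cfsg.Agent.Lib.Helper12.TCG.ONx122760.Rel0
import Cfsg.Agent.Lib.Helper12.TCG.ONx122760.Rel1
import Cfsg.Agent.Lib.Helper12.TCG.ONx122760.Rel2
import Cfsg.Agent.Lib.Helper12.TCG.ONx122760.Rel3
import Cfsg.Agent.Lib.Helper12.TCG.ONx122760.Rel4
import Cfsg.Agent.Lib.Helper12.TCG.ONx122760.Rel5
import Cfsg.Agent.Lib.Helper12.TCG.ONx122760.Rel6
import Cfsg.Agent.Lib.Helper12.TCG.ONx122760.Rel7
import Cfsg.Agent.Lib.Helper12.TCG.ONx122760.Rel8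
import Cfsg.Agent.Lib.Helper12.TCG.ONx122760.Rel9
import Cfsg.Agent.Lib.Helper12.TCG.ONx122760.Rel10
import Cfsg.Agent.Lib.Helper12.TCG.ONx122760.Rel11
import Cfsg.Agent.Lib.Helper12.TCG.ONx122760.Rel12
import Cfsg.Agent.Lib.Helper12.TCG.ONx122760.Rel13
import Cfsg.Agent.Lib.Helper12.TCG.ONx122760.Rel14
import Cfsg.Agent.Lib.Helper12.TCG.ONx122760.Rel15
import Cfsg.Agent.Lib.Helper12.TCG.ONx122760.Tab
import Cfsg.Agent.Lib.Helper12.TCG.ONPres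

/-! the permutation representation for ONx122760 (generated, helper12) -/

set_option autoImplicit false
set_option maxRecDepth 100000
set_option linter.unusedSimpArgs false
set_option Elab.async false

namespace Cfsg.Agent.Lib.Helper12.TCG.ONx122760

open Cfsg.Agent.Lib.Helper12.TC Cfsg.Agent.Lib.Helper12.TCG Cfsg.Agent.Lib.Helper12.TCG.ONPres

theorem htN : tN = cN := rfl

theorem hperm0 : permOneG 18364758544241406480 TT 0 tN = true :=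
  permOneG_of_OK (permOK_step hperm0_7 rfl
    (permOK_step hperm0_6 rfl
    (permOK_step hperm0_5 rfl
    (permOK_step hperm0_4 rfl
    (permOK_step hperm0_3 rfl
    (permOK_step hperm0_2 rfl
    (permOK_step hperm0_1 rfl
    (permOK_step hperm0_0 rfl
    (permOK_start 18364758544241406480 TT 0 tN)))))))))

theorem hperm1 : permOneG 18364758544241406480 TT 1 tN = true :=
  permOneG_of_OK (permOK_step hperm1_7 rfl
    (permOK_step hperm1_6 rfl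
    (permOK_step hperm1_5 rfl
    (permOK_step hperm1_4 rfl
    (permOK_step hperm1_3 rfl
    (permOK_step hperm1_2 rfl
    (permOK_step hperm1_1 rfl
    (permOK_step hperm1_0 rfl
    (permOK_start 18364758544241406480 TT 1 tN)))))))))

theorem hperm2 : permOneG 18364758544241406480 TT 2 tN = true :=
  permOneG_of_OK (permOK_step hperm2_7 rfl
    (permOK_step hperm2_6 rfl
    (permOK_step hperm2_5 rfl
    (permOK_step hperm2_4 rfl
    (permOK_step hperm2_3 rfl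
    (permOK_step hperm2_2 rfl
    (permOK_step hperm2_1 rfl
    (permOK_step hperm2_0 rfl
    (permOK_start 18364758544241406480 TT 2 tN)))))))))

theorem hperm3 : permOneG 18364758544241406480 TT 3 tN = true :=
  permOneG_of_OK (permOK_step hperm3_7 rfl
    (permOK_step hperm3_6 rfl
    (permOK_step hperm3_5 rfl
    (permOK_step hperm3_4 rfl
    (permOK_step hperm3_3 rfl
    (permOK_step hperm3_2 rfl
    (permOK_step hperm3_1 rfl
    (permOK_step hperm3_0 rfl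
    (permOK_start 18364758544241406480 TT 3 tN)))))))))

theorem hperm4 : permOneG 18364758544241406480 TT 4 tN = true :=
  permOneG_of_OK (permOK_step hperm4_7 rfl
    (permOK_step hperm4_6 rfl
    (permOK_step hperm4_5 rfl
    (permOK_step hperm4_4 rfl
    (permOK_step hperm4_3 rfl
    (permOK_step hperm4_2 rfl
    (permOK_step hperm4_1 rfl
    (permOK_step hperm4_0 rfl
    (permOK_start 18364758544241406480 TT 4 tN)))))))))

theorem hperm5 : permOneG 18364758544241406480 TT 5 tN = true :=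
  permOneG_of_OK (permOK_step hperm5_7 rfl
    (permOK_step hperm5_6 rfl
    (permOK_step hperm5_5 rfl
    (permOK_step hperm5_4 rfl
    (permOK_step hperm5_3 rfl
    (permOK_step hperm5_2 rfl
    (permOK_step hperm5_1 rfl
    (permOK_step hperm5_0 rfl
    (permOK_start 18364758544241406480 TT 5 tN)))))))))

theorem hperm6 : permOneG 18364758544241406480 TT 6 tN = true :=
  permOneG_of_OK (permOK_step hperm6_7 rfl
    (permOK_step hperm6_6 rfl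
    (permOK_step hperm6_5 rfl
    (permOK_step hperm6_4 rfl
    (permOK_step hperm6_3 rfl
    (permOK_step hperm6_2 rfl
    (permOK_step hperm6_1 rfl
    (permOK_step hperm6_0 rfl
    (permOK_start 18364758544241406480 TT 6 tN)))))))))

theorem hperm7 : permOneG 18364758544241406480 TT 7 tN = true :=
  permOneG_of_OK (permOK_step hperm7_7 rfl
    (permOK_step hperm7_6 rfl
    (permOK_step hperm7_5 rfl
    (permOK_step hperm7_4 rfl
    (permOK_step hperm7_3 rfl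
    (permOK_step hperm7_2 rfl
    (permOK_step hperm7_1 rfl
    (permOK_step hperm7_0 rfl
    (permOK_start 18364758544241406480 TT 7 tN)))))))))

theorem hperm : permG cIV TT 8 cN = true := by
  refine permG_of_ones (fun x hx => ?_)
  interval_cases x
  · exact hperm0
  · exact hperm1
  · exact hperm2
  · exact hperm3
  · exact hperm4
  · exact hperm5
  · exact hperm6
  · exact hperm7

/-- words as powers -/
def specs : List (List ℕ × ℕ) :=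
  [([0, 1], 3),
   ([0, 2], 2),
   ([1, 2], 3),
   ([0, 3], 2),
   ([1, 3], 2),
   ([2, 3], 8),
   ([0, 4], 2),
   ([1, 4], 2),
   ([2, 4], 2),
   ([3, 4], 3),
   ([0, 5], 2),
   ([1, 5], 2),
   ([2, 5], 2),
   ([3, 5], 2),
   ([4, 5], 3),
   ([0, 5, 7, 7], 1),
   ([0, 5, 3, 2, 3, 2, 3, 2, 3, 2], 1),
   ([2, 7, 3, 7, 3, 2, 3, 6, 3, 6], 1),
   ([3, 7, 2, 7, 2, 3, 2, 6, 2, 6], 1),
   ([1, 2, 3, 6], 5),
   ([6, 1, 2, 6, 2, 1, 6, 1, 2, 6, 2], 1),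
   ([6, 4, 3, 6, 3, 4, 6, 4, 3, 6, 3], 1),
   ([0], 2),
   ([1], 2),
   ([2], 2),
   ([3], 2),
   ([4], 2),
   ([5], 2),
   ([6, 7], 1),
   ([7, 6], 1),
   ([], 1)]

theorem hspecs : baseL = specs.map (fun s => wpow s.1 s.2) := by
  decide +kernel

theorem hfix0 : ∀ i < tN, (Fn.applyW TT ([0, 1], 3).1)^[([0, 1], 3).2] i = i :=
  Fn.fix_of_rangeOK (Fn.rangeOK_step hm0_3 rfl
    (Fn.rangeOK_step hm0_2 rfl
    (Fn.rangeOK_step hm0_1 rfl
    (Fn.rangeOK_step hm0_0 rfl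
    (Fn.rangeOK_start TT [0, 1] 3 tN)))))

theorem hfix1 : ∀ i < tN, (Fn.applyW TT ([0, 2], 2).1)^[([0, 2], 2).2] i = i :=
  Fn.fix_of_rangeOK (Fn.rangeOK_step hm1_3 rfl
    (Fn.rangeOK_step hm1_2 rfl
    (Fn.rangeOK_step hm1_1 rfl
    (Fn.rangeOK_step hm1_0 rfl
    (Fn.rangeOK_start TT [0, 2] 2 tN)))))

theorem hfix2 : ∀ i < tN, (Fn.applyW TT ([1, 2], 3).1)^[([1, 2], 3).2] i = i :=
  Fn.fix_of_rangeOK (Fn.rangeOK_step hm2_3 rfl
    (Fn.rangeOK_step hm2_2 rfl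
    (Fn.rangeOK_step hm2_1 rfl
    (Fn.rangeOK_step hm2_0 rfl
    (Fn.rangeOK_start TT [1, 2] 3 tN)))))

theorem hfix3 : ∀ i < tN, (Fn.applyW TT ([0, 3], 2).1)^[([0, 3], 2).2] i = i :=
  Fn.fix_of_rangeOK (Fn.rangeOK_step hm3_3 rfl
    (Fn.rangeOK_step hm3_2 rfl
    (Fn.rangeOK_step hm3_1 rfl
    (Fn.rangeOK_step hm3_0 rfl
    (Fn.rangeOK_start TT [0, 3] 2 tN)))))

theorem hfix4 : ∀ i < tN, (Fn.applyW TT ([1, 3], 2).1)^[([1, 3], 2).2] i = i :=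
  Fn.fix_of_rangeOK (Fn.rangeOK_step hm4_3 rfl
    (Fn.rangeOK_step hm4_2 rfl
    (Fn.rangeOK_step hm4_1 rfl
    (Fn.rangeOK_step hm4_0 rfl
    (Fn.rangeOK_start TT [1, 3] 2 tN)))))

theorem hfix5 : ∀ i < tN, (Fn.applyW TT ([2, 3], 8).1)^[([2, 3], 8).2] i = i :=
  Fn.fix_of_rangeOK (Fn.rangeOK_step hm5_3 rfl
    (Fn.rangeOK_step hm5_2 rfl
    (Fn.rangeOK_step hm5_1 rfl
    (Fn.rangeOK_step hm5_0 rfl
    (Fn.rangeOK_start TT [2, 3] 8 tN)))))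

theorem hfix6 : ∀ i < tN, (Fn.applyW TT ([0, 4], 2).1)^[([0, 4], 2).2] i = i :=
  Fn.fix_of_rangeOK (Fn.rangeOK_step hm6_3 rfl
    (Fn.rangeOK_step hm6_2 rfl
    (Fn.rangeOK_step hm6_1 rfl
    (Fn.rangeOK_step hm6_0 rfl
    (Fn.rangeOK_start TT [0, 4] 2 tN)))))

theorem hfix7 : ∀ i < tN, (Fn.applyW TT ([1, 4], 2).1)^[([1, 4], 2).2] i = i :=
  Fn.fix_of_rangeOK (Fn.rangeOK_step hm7_3 rfl
    (Fn.rangeOK_step hm7_2 rfl
    (Fn.rangeOK_step hm7_1 rfl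
    (Fn.rangeOK_step hm7_0 rfl
    (Fn.rangeOK_start TT [1, 4] 2 tN)))))

theorem hfix8 : ∀ i < tN, (Fn.applyW TT ([2, 4], 2).1)^[([2, 4], 2).2] i = i :=
  Fn.fix_of_rangeOK (Fn.rangeOK_step hm8_3 rfl
    (Fn.rangeOK_step hm8_2 rfl
    (Fn.rangeOK_step hm8_1 rfl
    (Fn.rangeOK_step hm8_0 rfl
    (Fn.rangeOK_start TT [2, 4] 2 tN)))))

theorem hfix9 : ∀ i < tN, (Fn.applyW TT ([3, 4], 3).1)^[([3, 4], 3).2] i = i :=
  Fn.fix_of_rangeOK (Fn.rangeOK_step hm9_3 rfl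
    (Fn.rangeOK_step hm9_2 rfl
    (Fn.rangeOK_step hm9_1 rfl
    (Fn.rangeOK_step hm9_0 rfl
    (Fn.rangeOK_start TT [3, 4] 3 tN)))))

theorem hfix10 : ∀ i < tN, (Fn.applyW TT ([0, 5], 2).1)^[([0, 5], 2).2] i = i :=
  Fn.fix_of_rangeOK (Fn.rangeOK_step hm10_3 rfl
    (Fn.rangeOK_step hm10_2 rfl
    (Fn.rangeOK_step hm10_1 rfl
    (Fn.rangeOK_step hm10_0 rfl
    (Fn.rangeOK_start TT [0, 5] 2 tN)))))

theorem hfix11 : ∀ i < tN, (Fn.applyW TT ([1, 5], 2).1)^[([1, 5], 2).2] i = i :=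
  Fn.fix_of_rangeOK (Fn.rangeOK_step hm11_3 rfl
    (Fn.rangeOK_step hm11_2 rfl
    (Fn.rangeOK_step hm11_1 rfl
    (Fn.rangeOK_step hm11_0 rfl
    (Fn.rangeOK_start TT [1, 5] 2 tN)))))

theorem hfix12 : ∀ i < tN, (Fn.applyW TT ([2, 5], 2).1)^[([2, 5], 2).2] i = i :=
  Fn.fix_of_rangeOK (Fn.rangeOK_step hm12_3 rfl
    (Fn.rangeOK_step hm12_2 rfl
    (Fn.rangeOK_step hm12_1 rfl
    (Fn.rangeOK_step hm12_0 rfl
    (Fn.rangeOK_start TT [2, 5] 2 tN)))))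

theorem hfix13 : ∀ i < tN, (Fn.applyW TT ([3, 5], 2).1)^[([3, 5], 2).2] i = i :=
  Fn.fix_of_rangeOK (Fn.rangeOK_step hm13_3 rfl
    (Fn.rangeOK_step hm13_2 rfl
    (Fn.rangeOK_step hm13_1 rfl
    (Fn.rangeOK_step hm13_0 rfl
    (Fn.rangeOK_start TT [3, 5] 2 tN)))))

theorem hfix14 : ∀ i < tN, (Fn.applyW TT ([4, 5], 3).1)^[([4, 5], 3).2] i = i :=
  Fn.fix_of_rangeOK (Fn.rangeOK_step hm14_3 rfl
    (Fn.rangeOK_step hm14_2 rfl
    (Fn.rangeOK_step hm14_1 rfl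
    (Fn.rangeOK_step hm14_0 rfl
    (Fn.rangeOK_start TT [4, 5] 3 tN)))))

theorem hfix15 : ∀ i < tN, (Fn.applyW TT ([0, 5, 7, 7], 1).1)^[([0, 5, 7, 7], 1).2] i = i :=
  Fn.fix_of_rangeOK (Fn.rangeOK_step hm15_6 rfl
    (Fn.rangeOK_step hm15_5 rfl
    (Fn.rangeOK_step hm15_4 rfl
    (Fn.rangeOK_step hm15_3 rfl
    (Fn.rangeOK_step hm15_2 rfl
    (Fn.rangeOK_step hm15_1 rfl
    (Fn.rangeOK_step hm15_0 rfl
    (Fn.rangeOK_start TT [0, 5, 7, 7] 1 tN))))))))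

theorem hfix16 : ∀ i < tN, (Fn.applyW TT ([0, 5, 3, 2, 3, 2, 3, 2, 3, 2], 1).1)^[([0, 5, 3, 2, 3, 2, 3, 2, 3, 2], 1).2] i = i :=
  Fn.fix_of_rangeOK (Fn.rangeOK_step hm16_15 rfl
    (Fn.rangeOK_step hm16_14 rfl
    (Fn.rangeOK_step hm16_13 rfl
    (Fn.rangeOK_step hm16_12 rfl
    (Fn.rangeOK_step hm16_11 rfl
    (Fn.rangeOK_step hm16_10 rfl
    (Fn.rangeOK_step hm16_9 rfl
    (Fn.rangeOK_step hm16_8 rfl
    (Fn.rangeOK_step hm16_7 rfl
    (Fn.rangeOK_step hm16_6 rfl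
    (Fn.rangeOK_step hm16_5 rfl
    (Fn.rangeOK_step hm16_4 rfl
    (Fn.rangeOK_step hm16_3 rfl
    (Fn.rangeOK_step hm16_2 rfl
    (Fn.rangeOK_step hm16_1 rfl
    (Fn.rangeOK_step hm16_0 rfl
    (Fn.rangeOK_start TT [0, 5, 3, 2, 3, 2, 3, 2, 3, 2] 1 tN)))))))))))))))))

theorem hfix17 : ∀ i < tN, (Fn.applyW TT ([2, 7, 3, 7, 3, 2, 3, 6, 3, 6], 1).1)^[([2, 7, 3, 7, 3, 2, 3, 6, 3, 6], 1).2] i = i :=
  Fn.fix_of_rangeOK (Fn.rangeOK_step hm17_15 rfl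
    (Fn.rangeOK_step hm17_14 rfl
    (Fn.rangeOK_step hm17_13 rfl
    (Fn.rangeOK_step hm17_12 rfl
    (Fn.rangeOK_step hm17_11 rfl
    (Fn.rangeOK_step hm17_10 rfl
    (Fn.rangeOK_step hm17_9 rfl
    (Fn.rangeOK_step hm17_8 rfl
    (Fn.rangeOK_step hm17_7 rfl
    (Fn.rangeOK_step hm17_6 rfl
    (Fn.rangeOK_step hm17_5 rfl
    (Fn.rangeOK_step hm17_4 rfl
    (Fn.rangeOK_step hm17_3 rfl
    (Fn.rangeOK_step hm17_2 rfl
    (Fn.rangeOK_step hm17_1 rfl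
    (Fn.rangeOK_step hm17_0 rfl
    (Fn.rangeOK_start TT [2, 7, 3, 7, 3, 2, 3, 6, 3, 6] 1 tN)))))))))))))))))

theorem hfix18 : ∀ i < tN, (Fn.applyW TT ([3, 7, 2, 7, 2, 3, 2, 6, 2, 6], 1).1)^[([3, 7, 2, 7, 2, 3, 2, 6, 2, 6], 1).2] i = i :=
  Fn.fix_of_rangeOK (Fn.rangeOK_step hm18_15 rfl
    (Fn.rangeOK_step hm18_14 rfl
    (Fn.rangeOK_step hm18_13 rfl
    (Fn.rangeOK_step hm18_12 rfl
    (Fn.rangeOK_step hm18_11 rfl
    (Fn.rangeOK_step hm18_10 rfl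
    (Fn.rangeOK_step hm18_9 rfl
    (Fn.rangeOK_step hm18_8 rfl
    (Fn.rangeOK_step hm18_7 rfl
    (Fn.rangeOK_step hm18_6 rfl
    (Fn.rangeOK_step hm18_5 rfl
    (Fn.rangeOK_step hm18_4 rfl
    (Fn.rangeOK_step hm18_3 rfl
    (Fn.rangeOK_step hm18_2 rfl
    (Fn.rangeOK_step hm18_1 rfl
    (Fn.rangeOK_step hm18_0 rfl
    (Fn.rangeOK_start TT [3, 7, 2, 7, 2, 3, 2, 6, 2, 6] 1 tN)))))))))))))))))

theorem hfix19 : ∀ i < tN, (Fn.applyW TT ([1, 2, 3, 6], 5).1)^[([1, 2, 3, 6], 5).2] i = i :=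
  Fn.fix_of_rangeOK (Fn.rangeOK_step hm19_6 rfl
    (Fn.rangeOK_step hm19_5 rfl
    (Fn.rangeOK_step hm19_4 rfl
    (Fn.rangeOK_step hm19_3 rfl
    (Fn.rangeOK_step hm19_2 rfl
    (Fn.rangeOK_step hm19_1 rfl
    (Fn.rangeOK_step hm19_0 rfl
    (Fn.rangeOK_start TT [1, 2, 3, 6] 5 tN))))))))

theorem hfix20 : ∀ i < tN, (Fn.applyW TT ([6, 1, 2, 6, 2, 1, 6, 1, 2, 6, 2], 1).1)^[([6, 1, 2, 6, 2, 1, 6, 1, 2, 6, 2], 1).2] i = i :=
  Fn.fix_of_rangeOK (Fn.rangeOK_step hm20_16 rfl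
    (Fn.rangeOK_step hm20_15 rfl
    (Fn.rangeOK_step hm20_14 rfl
    (Fn.rangeOK_step hm20_13 rfl
    (Fn.rangeOK_step hm20_12 rfl
    (Fn.rangeOK_step hm20_11 rfl
    (Fn.rangeOK_step hm20_10 rfl
    (Fn.rangeOK_step hm20_9 rfl
    (Fn.rangeOK_step hm20_8 rfl
    (Fn.rangeOK_step hm20_7 rfl
    (Fn.rangeOK_step hm20_6 rfl
    (Fn.rangeOK_step hm20_5 rfl
    (Fn.rangeOK_step hm20_4 rfl
    (Fn.rangeOK_step hm20_3 rfl
    (Fn.rangeOK_step hm20_2 rfl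
    (Fn.rangeOK_step hm20_1 rfl
    (Fn.rangeOK_step hm20_0 rfl
    (Fn.rangeOK_start TT [6, 1, 2, 6, 2, 1, 6, 1, 2, 6, 2] 1 tN))))))))))))))))))

theorem hfix21 : ∀ i < tN, (Fn.applyW TT ([6, 4, 3, 6, 3, 4, 6, 4, 3, 6, 3], 1).1)^[([6, 4, 3, 6, 3, 4, 6, 4, 3, 6, 3], 1).2] i = i :=
  Fn.fix_of_rangeOK (Fn.rangeOK_step hm21_16 rfl
    (Fn.rangeOK_step hm21_15 rfl
    (Fn.rangeOK_step hm21_14 rfl
    (Fn.rangeOK_step hm21_13 rfl
    (Fn.rangeOK_step hm21_12 rfl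
    (Fn.rangeOK_step hm21_11 rfl
    (Fn.rangeOK_step hm21_10 rfl
    (Fn.rangeOK_step hm21_9 rfl
    (Fn.rangeOK_step hm21_8 rfl
    (Fn.rangeOK_step hm21_7 rfl
    (Fn.rangeOK_step hm21_6 rfl
    (Fn.rangeOK_step hm21_5 rfl
    (Fn.rangeOK_step hm21_4 rfl
    (Fn.rangeOK_step hm21_3 rfl
    (Fn.rangeOK_step hm21_2 rfl
    (Fn.rangeOK_step hm21_1 rfl
    (Fn.rangeOK_step hm21_0 rfl
    (Fn.rangeOK_start TT [6, 4, 3, 6, 3, 4, 6, 4, 3, 6, 3] 1 tN))))))))))))))))))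

theorem hfix22 : ∀ i < tN, (Fn.applyW TT ([0], 2).1)^[([0], 2).2] i = i :=
  Fn.fix_of_rangeOK (Fn.rangeOK_step hm22_1 rfl
    (Fn.rangeOK_step hm22_0 rfl
    (Fn.rangeOK_start TT [0] 2 tN)))

theorem hfix23 : ∀ i < tN, (Fn.applyW TT ([1], 2).1)^[([1], 2).2] i = i :=
  Fn.fix_of_rangeOK (Fn.rangeOK_step hm23_1 rfl
    (Fn.rangeOK_step hm23_0 rfl
    (Fn.rangeOK_start TT [1] 2 tN)))

theorem hfix24 : ∀ i < tN, (Fn.applyW TT ([2], 2).1)^[([2], 2).2] i = i :=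
  Fn.fix_of_rangeOK (Fn.rangeOK_step hm24_1 rfl
    (Fn.rangeOK_step hm24_0 rfl
    (Fn.rangeOK_start TT [2] 2 tN)))

theorem hfix25 : ∀ i < tN, (Fn.applyW TT ([3], 2).1)^[([3], 2).2] i = i :=
  Fn.fix_of_rangeOK (Fn.rangeOK_step hm25_1 rfl
    (Fn.rangeOK_step hm25_0 rfl
    (Fn.rangeOK_start TT [3] 2 tN)))

theorem hfix26 : ∀ i < tN, (Fn.applyW TT ([4], 2).1)^[([4], 2).2] i = i :=
  Fn.fix_of_rangeOK (Fn.rangeOK_step hm26_1 rfl
    (Fn.rangeOK_step hm26_0 rfl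
    (Fn.rangeOK_start TT [4] 2 tN)))

theorem hfix27 : ∀ i < tN, (Fn.applyW TT ([5], 2).1)^[([5], 2).2] i = i :=
  Fn.fix_of_rangeOK (Fn.rangeOK_step hm27_1 rfl
    (Fn.rangeOK_step hm27_0 rfl
    (Fn.rangeOK_start TT [5] 2 tN)))

theorem hfix28 : ∀ i < tN, (Fn.applyW TT ([6, 7], 1).1)^[([6, 7], 1).2] i = i :=
  Fn.fix_of_rangeOK (Fn.rangeOK_step hm28_3 rfl
    (Fn.rangeOK_step hm28_2 rfl
    (Fn.rangeOK_step hm28_1 rfl
    (Fn.rangeOK_step hm28_0 rfl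
    (Fn.rangeOK_start TT [6, 7] 1 tN)))))

theorem hfix29 : ∀ i < tN, (Fn.applyW TT ([7, 6], 1).1)^[([7, 6], 1).2] i = i :=
  Fn.fix_of_rangeOK (Fn.rangeOK_step hm29_3 rfl
    (Fn.rangeOK_step hm29_2 rfl
    (Fn.rangeOK_step hm29_1 rfl
    (Fn.rangeOK_step hm29_0 rfl
    (Fn.rangeOK_start TT [7, 6] 1 tN)))))

theorem hfix30 : ∀ i < tN, (Fn.applyW TT (([] : List ℕ), 1).1)^[(([] : List ℕ), 1).2] i = i :=
  Fn.fix_of_rangeOK (Fn.rangeOK_step hm30_1 rfl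
    (Fn.rangeOK_step hm30_0 rfl
    (Fn.rangeOK_start TT [] 1 tN)))

theorem hfixall : Fn.FixAll TT tN specs :=
  Fn.fixAll_cons hfix0
    (Fn.fixAll_cons hfix1
    (Fn.fixAll_cons hfix2
    (Fn.fixAll_cons hfix3
    (Fn.fixAll_cons hfix4
    (Fn.fixAll_cons hfix5
    (Fn.fixAll_cons hfix6
    (Fn.fixAll_cons hfix7
    (Fn.fixAll_cons hfix8
    (Fn.fixAll_cons hfix9
    (Fn.fixAll_cons hfix10
    (Fn.fixAll_cons hfix11
    (Fn.fixAll_cons hfix12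
    (Fn.fixAll_cons hfix13
    (Fn.fixAll_cons hfix14
    (Fn.fixAll_cons hfix15
    (Fn.fixAll_cons hfix16
    (Fn.fixAll_cons hfix17
    (Fn.fixAll_cons hfix18
    (Fn.fixAll_cons hfix19
    (Fn.fixAll_cons hfix20
    (Fn.fixAll_cons hfix21
    (Fn.fixAll_cons hfix22
    (Fn.fixAll_cons hfix23
    (Fn.fixAll_cons hfix24
    (Fn.fixAll_cons hfix25
    (Fn.fixAll_cons hfix26
    (Fn.fixAll_cons hfix27
    (Fn.fixAll_cons hfix28
    (Fn.fixAll_cons hfix29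
    (Fn.fixAll_cons hfix30
    (Fn.fixAll_nil TT tN)))))))))))))))))))))))))))))))

theorem hrels : Fn.relsK TT cN baseL = true := by
  rw [hspecs]
  exact Fn.relsK_of_fixAll hfixall

theorem hsub : Fn.subK TT 8 sw = true := by decide +kernel

theorem htrans : Fn.transK TT 8 cN sw = true := by decide +kernel

theorem horbi0 : Fn.orbInvK TT sw 0 1 = true := by
  refine Fn.orbInvK_of_ones ?_
  unfold sw
  simp only [List.forall_mem_cons, List.not_mem_nil, false_imp_iff, implies_true, and_true]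
  exact ⟨horbi0_0, horbi0_1, horbi0_2, horbi0_3, horbi0_4, horbi0_5⟩

theorem horbc0 : Fn.orbConnK TT sw 0 1 = true := by decide +kernel

theorem horbi1 : Fn.orbInvK TT sw 1 58654 = true := by
  refine Fn.orbInvK_of_ones ?_
  unfold sw
  simp only [List.forall_mem_cons, List.not_mem_nil, false_imp_iff, implies_true, and_true]
  exact ⟨horbi1_0, horbi1_1, horbi1_2, horbi1_3, horbi1_4, horbi1_5⟩

theorem horbc1 : Fn.orbConnK TT sw 1 58654 = true := by decide +kernel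

theorem horbi2 : Fn.orbInvK TT sw 58654 110790 = true := by
  refine Fn.orbInvK_of_ones ?_
  unfold sw
  simp only [List.forall_mem_cons, List.not_mem_nil, false_imp_iff, implies_true, and_true]
  exact ⟨horbi2_0, horbi2_1, horbi2_2, horbi2_3, horbi2_4, horbi2_5⟩

theorem horbc2 : Fn.orbConnK TT sw 58654 110790 = true := by decide +kernel

theorem horbi3 : Fn.orbInvK TT sw 110790 116376 = true := by
  refine Fn.orbInvK_of_ones ?_
  unfold sw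
  simp only [List.forall_mem_cons, List.not_mem_nil, false_imp_iff, implies_true, and_true]
  exact ⟨horbi3_0, horbi3_1, horbi3_2, horbi3_3, horbi3_4, horbi3_5⟩

theorem horbc3 : Fn.orbConnK TT sw 110790 116376 = true := by decide +kernel

theorem horbi4 : Fn.orbInvK TT sw 116376 122760 = true := by
  refine Fn.orbInvK_of_ones ?_
  unfold sw
  simp only [List.forall_mem_cons, List.not_mem_nil, false_imp_iff, implies_true, and_true]
  exact ⟨horbi4_0, horbi4_1, horbi4_2, horbi4_3, horbi4_4, horbi4_5⟩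

theorem horbc4 : Fn.orbConnK TT sw 116376 122760 = true := by decide +kernel

end Cfsg.Agent.Lib.Helper12.TCG.ONx122760
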