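import Cfsg.Agent.Lib.Helper12.TCG.ONx122760.Chk0
import Cfsg.Agent.Lib.Helper12.TCG.ONx122760.Chk1
import Cfsg.Agent.Lib.Helper12.TCG.ONx122760.Chk2
import Cfsg.Agent.Lib.Helper12.TCG.ONx122760.Chk3
import Cfsg.Agent.Lib.Helper12.TCG.ONx122760.Chk4
import Cfsg.Agent.Lib.Helper12.TCG.ONx122760.Chk5
import Cfsg.Agent.Lib.Helper12.TCG.ONx122760.Chk6
import Cfsg.Agent.Lib.Helper12.TCG.ONx122760.Chk7
import Cfsg.Agent.Lib.Helper12.TCG.ONx122760.Chk8
import Cfsg.Agent.Lib.Helper12.TCG.ONx122760.Chk9
import Cfsg.Agent.Lib.Helper12.TCG.ONx122760.Chk10
import Cfsg.Agent.Lib.Helper12.TCG.ONx122760.Chk11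
import Cfsg.Agent.Lib.Helper12.TCG.ONx122760.Chk12
import Cfsg.Agent.Lib.Helper12.TCG.ONx122760.Chk13
import Cfsg.Agent.Lib.Helper12.TCG.ONx122760.Chk14
import Cfsg.Agent.Lib.Helper12.TCG.ONx122760.Chk15
import Cfsg.Agent.Lib.Helper12.TCG.ONx122760.Chk16
import Cfsg.Agent.Lib.Helper12.TCG.ONx122760.Chk17
import Cfsg.Agent.Lib.Helper12.TCG.ONx122760.Chk18
import Cfsg.Agent.Lib.Helper12.TCG.ONx122760.Chk19
import Cfsg.Agent.Lib.Helper12.TCG.ONx122760.Chk20
import Cfsg.Agent.Lib.Helper12.TCG.ONx122760.Chk21
import Cfsg.Agent.Lib.Helper12.TCG.ONx122760.Chk22
import Cfsg.Agent.Lib.Helper12.TCG.ONx122760.Chk23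
import Cfsg.Agent.Lib.Helper12.TCG.ONx122760.Chk24
import Cfsg.Agent.Lib.Helper12.TCG.ONx122760.Chk25
import Cfsg.Agent.Lib.Helper12.TCG.ONx122760.Chk26
import Cfsg.Agent.Lib.Helper12.TCG.ONx122760.Chk27
import Cfsg.Agent.Lib.Helper12.TCG.ONx122760.Chk28
import Cfsg.Agent.Lib.Helper12.TCG.ONx122760.Chk29
import Cfsg.Agent.Lib.Helper12.TCG.ONx122760.Chk30
import Cfsg.Agent.Lib.Helper12.TCG.ONx122760.Chk31
import Cfsg.Agent.Lib.Helper12.TCG.ONx122760.Chk32
import Cfsg.Agent.Lib.Helper12.TCG.ONx122760.Chk33
import Cfsg.Agent.Lib.Helper12.TCG.ONx122760.Perm
import Cfsg.Agent.Lib.Helper12.TCG.ONx122760.Fin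

/-! the index theorem for ONx122760 (generated, helper12) -/

set_option autoImplicit false
set_option maxRecDepth 100000
set_option linter.unusedSimpArgs false

namespace Cfsg.Agent.Lib.Helper12.TCG.ONx122760

open Cfsg.Agent.Lib.Helper12.TC Cfsg.Agent.Lib.Helper12.TCG Cfsg.Agent.Lib.Helper12.TCG.ONPres

/-- the chunks of the certificate -/
def chunks : List (ℕ × List ℕ) :=
  [(191030, c0), (193030, c1), (195030, c2), (197030, c3), (199030, c4), (201030, c5), (203030, c6), (205030, c7), (207030, c8), (209030, c9), (211030, c10), (213030, c11), (215030, c12), (217030, c13), (219030, c14), (221030, c15), (223030, c16), (225030, c17), (227030, c18), (229030, c19), (231030, c20), (233030, c21), (235030, c22), (237030, c23), (239030, c24), (241030, c25), (243030, c26), (245030, c27), (247030, c28), (249030, c29), (251030, c30), (253030, c31), (255030, c32), (257030, c33), (259030, c34), (261030, c35), (263030, c36), (265030, c37), (267030, c38), (269030, c39), (271030, c40), (273030, c41), (275030, c42), (277030, c43), (279030, c44), (281030, c45), (283030, c46), (285030, c47), (287030, c48), (289030, c49), (291030, c50), (293030,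 c51), (295030, c52), (297030, c53), (299030, c54), (301030, c55), (303030, c56), (305030, c57), (307030, c58), (309030, c59), (311030, c60), (313030, c61), (315030, c62), (317030, c63), (319030, c64), (321030, c65), (323030, c66), (325030, c67), (327030, c68), (329030, c69), (331030, c70), (333030, c71), (335030, c72), (337030, c73), (339030, c74), (341030, c75), (343030, c76), (345030, c77), (347030, c78), (349030, c79), (351030, c80), (353030, c81), (355030, c82), (357030, c83), (359030, c84), (361030, c85), (363030, c86), (365030, c87), (367030, c88), (369030, c89), (371030, c90), (373030, c91), (375030, c92), (377030, c93), (379030, c94), (381030, c95), (383030, c96), (385030, c97), (387030, c98), (389030, c99), (391030, c100), (393030, c101), (395030, c102), (397030, c103), (399030, c104), (401030, c105), (403030, c106), (405030, c107), (407030, c108), (409030, c109), (411030, c110), (413030, c111), (415030, c112), (417030, c113), (419030, c114), (421030, c115), (423030, c116), (425030, c117), (427030, c118), (429030, c119), (431030, c120), (433030, c121), (435030, c122), (437030, c123), (439030, c124), (441030, c125), (443030,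 c126), (445030, c127), (447030, c128), (449030, c129), (451030, c130), (453030, c131), (455030, c132), (457030, c133), (459030, c134), (461030, c135), (463030, c136), (465030, c137), (467030, c138), (469030, c139), (471030, c140), (473030, c141), (475030, c142), (477030, c143), (479030, c144), (481030, c145), (483030, c146), (485030, c147), (487030, c148), (489030, c149), (491030, c150), (493030, c151), (495030, c152), (497030, c153), (499030, c154), (501030, c155), (503030, c156), (505030, c157), (507030, c158), (509030, c159), (511030, c160), (513030, c161), (515030, c162), (517030, c163), (519030, c164), (521030, c165), (523030, c166), (525030, c167), (527030, c168), (529030, c169), (531030, c170), (533030, c171), (535030, c172), (537030, c173), (539030, c174), (541030, c175), (543030, c176), (545030, c177), (547030, c178), (549030, c179), (551030, c180), (553030, c181), (555030, c182), (557030, c183), (559030, c184), (561030, c185), (563030, c186), (565030, c187), (567030, c188), (569030, c189), (571030, c190), (573030, c191), (575030, c192), (577030, c193), (579030, c194), (581030, c195), (583030, c196), (585030, c197), (587030,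 c198), (589030, c199), (591030, c200), (593030, c201), (595030, c202), (597030, c203), (599030, c204), (601030, c205), (603030, c206), (605030, c207), (607030, c208), (609030, c209), (611030, c210), (613030, c211), (615030, c212), (617030, c213), (619030, c214), (621030, c215), (623030, c216), (625030, c217), (627030, c218), (629030, c219), (631030, c220), (633030, c221), (635030, c222), (637030, c223), (639030, c224), (641030, c225), (643030, c226), (645030, c227), (647030, c228), (649030, c229), (651030, c230), (653030, c231), (655030, c232), (657030, c233), (659030, c234), (661030, c235), (663030, c236), (665030, c237), (667030, c238), (669030, c239), (671030, c240), (673030, c241), (675030, c242), (677030, c243), (679030, c244), (681030, c245), (683030, c246), (685030, c247), (687030, c248), (689030, c249), (691030, c250), (693030, c251), (695030, c252), (697030, c253), (699030, c254), (701030, c255), (703030, c256), (705030, c257), (707030, c258), (709030, c259), (711030, c260), (713030, c261), (715030, c262), (717030, c263), (719030, c264), (721030, c265), (723030, c266), (725030, c267), (727030, c268), (729030, c269), (731030,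 c270)]

theorem hcover : coverK cD cK chunks = true := by decide +kernel

theorem hchunks : ∀ c ∈ chunks, chunkG cIV F RW cR0 c.2 c.1 = true := by
  unfold chunks
  simp only [List.forall_mem_cons, List.not_mem_nil, false_imp_iff, implies_true, and_true]
  exact ⟨chunk0, chunk1, chunk2, chunk3, chunk4, chunk5, chunk6, chunk7, chunk8, chunk9, chunk10, chunk11, chunk12, chunk13, chunk14, chunk15, chunk16, chunk17, chunk18, chunk19, chunk20, chunk21, chunk22, chunk23, chunk24, chunk25, chunk26, chunk27, chunk28, chunk29, chunk30, chunk31, chunk32, chunk33, chunk34, chunk35, chunk36, chunk37, chunk38, chunk39, chunk40, chunk41, chunk42, chunk43, chunk44, chunk45, chunk46, chunk47, chunk48, chunk49, chunk50, chunk51, chunk52, chunk53, chunk54, chunk55, chunk56, chunk57, chunk58, chunk59, chunk60, chunk61, chunk62, chunk63, chunk64, chunk65, chunk66, chunk67, chunk68, chunk69, chunk70, chunk71, chunk72, chunk73, chunk74, chunk75, chunk76, chunk77, chunk78, chunk79, chunk80, chunk81, chunk82, chunk83, chunk84, chunk85, chunk86, chunk87, chunk88, chunk89, chunk90, chunk91, chunk92, chunk93, chunk94, chunk95, chunk96, chunk97, chunk98,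 chunk99, chunk100, chunk101, chunk102, chunk103, chunk104, chunk105, chunk106, chunk107, chunk108, chunk109, chunk110, chunk111, chunk112, chunk113, chunk114, chunk115, chunk116, chunk117, chunk118, chunk119, chunk120, chunk121, chunk122, chunk123, chunk124, chunk125, chunk126, chunk127, chunk128, chunk129, chunk130, chunk131, chunk132, chunk133, chunk134, chunk135, chunk136, chunk137, chunk138, chunk139, chunk140, chunk141, chunk142, chunk143, chunk144, chunk145, chunk146, chunk147, chunk148, chunk149, chunk150, chunk151, chunk152, chunk153, chunk154, chunk155, chunk156, chunk157, chunk158, chunk159, chunk160, chunk161, chunk162, chunk163, chunk164, chunk165, chunk166, chunk167, chunk168, chunk169, chunk170, chunk171, chunk172, chunk173, chunk174, chunk175, chunk176, chunk177, chunk178, chunk179, chunk180, chunk181, chunk182, chunk183, chunk184, chunk185, chunk186, chunk187, chunk188, chunk189, chunk190, chunk191, chunk192, chunk193, chunk194, chunk195, chunk196, chunk197, chunk198, chunk199, chunk200, chunk201, chunk202, chunk203, chunk204, chunk205, chunk206, chunk207, chunk208, chunk209, chunk210, chunk211, chunk212, chunk213,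 chunk214, chunk215, chunk216, chunk217, chunk218, chunk219, chunk220, chunk221, chunk222, chunk223, chunk224, chunk225, chunk226, chunk227, chunk228, chunk229, chunk230, chunk231, chunk232, chunk233, chunk234, chunk235, chunk236, chunk237, chunk238, chunk239, chunk240, chunk241, chunk242, chunk243, chunk244, chunk245, chunk246, chunk247, chunk248, chunk249, chunk250, chunk251, chunk252, chunk253, chunk254, chunk255, chunk256, chunk257, chunk258, chunk259, chunk260, chunk261, chunk262, chunk263, chunk264, chunk265, chunk266, chunk267, chunk268, chunk269, chunk270⟩

end Cfsg.Agent.Lib.Helper12.TCG.ONx122760
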