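import Cfsg.Agent.Lib.Helper12.TCG.ONx122760.Main

/-!
The permutation representation of the presented O'Nan group on the 122760 cosets of the subgroup generated by
`a`, ..., `f`, and the orbits of that subgroup (helper12).
-/

set_option autoImplicit false
set_option maxRecDepth 100000

namespace Cfsg.Agent.Lib.Helper12.TCG.ONx122760

open Cfsg.Spor Cfsg.Agent.Lib.Helper12.TC Cfsg.Agent.Lib.Helper12.TCG Cfsg.Agent.Lib.Helper12.TCG.ONPres

/-- the subgroup generated by the images of `a`, ..., `f` -/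
noncomputable def Hs : Subgroup ON :=
  (Subgroup.closure ({ON.a, ON.b, ON.c, ON.d, ON.e, ON.f} : Set (FreeGroup ON.Gen))).map
    (PresentedGroup.mk rels)

theorem hH : Hs = Subgroup.closure {γ | ∃ w ∈ sw, γ = wprod v w} := by
  unfold Hs
  rw [MonoidHom.map_closure]
  congr 1
  ext γ
  constructor
  · rintro ⟨x, hx, rfl⟩
    rcases hx with rfl | rfl | rfl | rfl | rfl | rfl
    · exact ⟨[0], by decide, by rw [wprod_cons, wprod_nil, mul_one]; rfl⟩
    · exact ⟨[1], by decide, by rw [wprod_cons, wprod_nil, mul_one]; rfl⟩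
    · exact ⟨[2], by decide, by rw [wprod_cons, wprod_nil, mul_one]; rfl⟩
    · exact ⟨[3], by decide, by rw [wprod_cons, wprod_nil, mul_one]; rfl⟩
    · exact ⟨[4], by decide, by rw [wprod_cons, wprod_nil, mul_one]; rfl⟩
    · exact ⟨[5], by decide, by rw [wprod_cons, wprod_nil, mul_one]; rfl⟩
  · rintro ⟨w, hw, rfl⟩
    simp only [sw, List.mem_cons, List.not_mem_nil, or_false] at hw
    rcases hw with rfl | rfl | rfl | rfl | rfl | rfl
    · exact ⟨ON.a, Or.inl rfl, by rw [wprod_cons, wprod_nil, mul_one]; rfl⟩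
    · exact ⟨ON.b, Or.inr (Or.inl rfl), by rw [wprod_cons, wprod_nil, mul_one]; rfl⟩
    · exact ⟨ON.c, Or.inr (Or.inr (Or.inl rfl)), by rw [wprod_cons, wprod_nil, mul_one]; rfl⟩
    · exact ⟨ON.d, Or.inr (Or.inr (Or.inr (Or.inl rfl))), by
        rw [wprod_cons, wprod_nil, mul_one]; rfl⟩
    · exact ⟨ON.e, Or.inr (Or.inr (Or.inr (Or.inr (Or.inl rfl)))), by
        rw [wprod_cons, wprod_nil, mul_one]; rfl⟩
    · exact ⟨ON.f, Or.inr (Or.inr (Or.inr (Or.inr (Or.inr rfl)))), by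
        rw [wprod_cons, wprod_nil, mul_one]; rfl⟩

theorem hN0 : 0 < cN := by decide

/-- the permutation representation on the cosets of the subgroup -/
theorem mainRho : ∃ ρ : ON →* Equiv.Perm (Fin cN),
    (∀ x < 8, ∀ i : Fin cN, ((ρ (v x) i : Fin cN) : ℕ) = TT x i) ∧ Hs.index = cN ∧
    ∃ Φ : ON ⧸ Hs ≃ Fin cN, ∀ γ : ON, Φ (γ : ON ⧸ Hs) = ρ γ ⟨0, hN0⟩ :=
  main_rho v 8 ONPres.cIV (by decide) hiv hvinv hvge hgen baseL hbase ONPres.hlet sw Hs hH F RW finrecs TT
    rotW chunks cD cK cR0 cR cN hdefs hchunks hcover hrelc hperm (fun f => hlift f) hrels hsub htrans hfin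
    hlen hN0

/-- the permutation representation -/
noncomputable def rho : ON →* Equiv.Perm (Fin cN) := mainRho.choose

theorem rho_gen : ∀ x < 8, ∀ i : Fin cN, ((rho (v x) i : Fin cN) : ℕ) = TT x i :=
  mainRho.choose_spec.1

theorem rho_index : Hs.index = cN := mainRho.choose_spec.2.1

theorem rho_equiv : ∃ Φ : ON ⧸ Hs ≃ Fin cN, ∀ γ : ON, Φ (γ : ON ⧸ Hs) = rho γ ⟨0, hN0⟩ :=
  mainRho.choose_spec.2.2

end Cfsg.Agent.Lib.Helper12.TCG.ONx122760
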